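import Groth.Agent.Lib.LftDesc20.Basic
import Groth.Agent.Lib.GrpAtPt20.Props
import Groth.Agent.Lib.Deform4

/-!
# Group schemes over an Artinian local ring are locally of finite type if an open is
-/

universe u

open CategoryTheory Limits MonoidalCategory CartesianMonoidalCategory AlgebraicGeometry
open scoped MonObj GrpObj TensorProduct

set_option linter.style.haveILetI false
set_option backward.isDefEq.respectTransparency false

namespace Groth.Agent.LftDesc20

/-- A group over a field is locally of finite type if a nonempty open is. -/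
theorem lft_of_open {k : Type u} [Field k] (G : Over (Spec (CommRingCat.of k))) [GrpObj G]
    (W : G.left.Opens) (hW : (W : Set G.left).Nonempty) [LocallyOfFiniteType (W.ι ≫ G.hom)] :
    LocallyOfFiniteType G.hom := by
  haveI : Subsingleton (Spec (CommRingCat.of k)) := ⟨fun x y => Subsingleton.elim (α := PrimeSpectrum k) x y⟩
  refine GrpAtPt20.of_forall_nhd @LocallyOfFiniteType G.hom fun x => ?_
  have hu : LocallyOfFiniteType (W.ι ≫ (toUnit G).left) := by
    have : (toUnit G).left = G.hom := (Category.comp_id _).symm.trans (Over.w (toUnit G))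
    rw [this]; infer_instance
  obtain ⟨v, hv, V, hvV, hV⟩ := GrpAtPt20.exists_nhd (toUnit G) W hW @LocallyOfFiniteType hu x
  have hsnd : LocallyOfFiniteType (V.ι ≫ pullback.snd G.hom G.hom) := by
    haveI := hV
    haveI : IsIso (λ_ G).hom.left := inferInstanceAs (IsIso ((Over.forget _).mapIso (λ_ G)).hom)
    have e : pullback.snd G.hom G.hom = (toUnit G ▷ G).left ≫ (λ_ G).hom.left := by
      rw [← Over.comp_left, leftUnitor_hom, whiskerRight_snd]
      rfl
    rw [e, ← Category.assoc]
    infer_instance
  suffices key : ∀ (K : Type u) [Field K] (i : Spec (CommRingCat.of K) ⟶ G.left),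
      i (IsLocalRing.closedPoint K) = pullback.snd G.hom G.hom v →
      ∃ O : G.left.Opens, x ∈ O ∧ LocallyOfFiniteType (O.ι ≫ G.hom) from
    key _ (G.left.fromSpecResidueField ((snd G G).left v)) (Scheme.fromSpecResidueField_apply _ _)
  intro K _ i hi
  let α : k →+* K := (Spec.preimage (i ≫ G.hom)).hom
  algebraize [α]
  have hα : Spec.map (CommRingCat.ofHom (algebraMap k K)) = i ≫ G.hom :=
    Spec.map_preimage _
  let q := pullback.fst (pullback.snd G.hom G.hom) i
  have sq : IsPullback (q ≫ pullback.fst G.hom G.hom) (pullback.snd (pullback.snd G.hom G.hom) i) G.hom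
      (Spec.map (CommRingCat.ofHom (algebraMap k K))) := by
    rw [hα]
    exact (IsPullback.of_hasPullback (pullback.snd G.hom G.hom) i).paste_horiz
      (IsPullback.of_hasPullback G.hom G.hom)
  obtain ⟨z, hz, -⟩ := Scheme.Pullback.exists_preimage_pullback (f := pullback.snd G.hom G.hom) (g := i) v
    (IsLocalRing.closedPoint K) hi.symm
  let V' : (pullback (pullback.snd G.hom G.hom) i).Opens := q ⁻¹ᵁ V
  haveI : LocallyOfFiniteType (V'.ι ≫ pullback.snd (pullback.snd G.hom G.hom) i) :=
    MorphismProperty.of_isPullback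
      ((isPullback_morphismRestrict q V).paste_vert (IsPullback.of_hasPullback (pullback.snd G.hom G.hom) i)) hsnd
  let e := sq.isoPullback
  obtain ⟨O, hO, hO'⟩ := exists_lft_nhd G.hom (e.hom z) ⟨e.inv ⁻¹ᵁ V', by
    show q (e.inv (e.hom z)) ∈ V
    rw [← Scheme.Hom.comp_apply e.hom e.inv, e.hom_inv_id]
    show q z ∈ V
    rw [hz]; exact hvV, by
    rw [← sq.isoPullback_inv_snd, ← morphismRestrict_ι_assoc]
    infer_instance⟩
  refine ⟨O, ?_, hO'⟩
  rw [← hv]
  rw [← Scheme.Hom.comp_apply, sq.isoPullback_hom_fst, Scheme.Hom.comp_apply, hz] at hO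
  exact hO

/-- Being locally of finite type over an Artinian local ring may be checked on the closed fibre. -/
theorem lft_of_closedFibre (A : Type u) [CommRing A] [IsArtinianRing A] [IsLocalRing A] {X : Scheme.{u}}
    (f : X ⟶ Spec (CommRingCat.of A))
    [LocallyOfFiniteType (pullback.snd f (Spec.map (CommRingCat.ofHom (IsLocalRing.residue A))))] :
    LocallyOfFiniteType f := by
  refine IsZariskiLocalAtSource.of_openCover (P := @LocallyOfFiniteType) X.affineCover fun j => ?_
  obtain ⟨φ, hφ⟩ : ∃ φ : CommRingCat.of A ⟶ _, Spec.map φ = X.affineCover.f j ≫ f :=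
    ⟨_, Spec.map_preimage _⟩
  rw [← hφ, HasRingHomProperty.Spec_iff (P := @LocallyOfFiniteType)]
  let m := IsLocalRing.maximalIdeal A
  let r := Spec.map (CommRingCat.ofHom (algebraMap A (A ⧸ m)))
  let mm : pullback (Spec.map φ) r ⟶ pullback f r :=
    pullback.map _ _ f r (X.affineCover.f j) (𝟙 _) (𝟙 _) (by rw [Category.comp_id]; exact hφ) (by simp)
  haveI : LocallyOfFiniteType (pullback.snd f r) :=
    ‹LocallyOfFiniteType (pullback.snd f (Spec.map (CommRingCat.ofHom (IsLocalRing.residue A))))›
  haveI : IsOpenImmersion mm := by dsimp [mm]; infer_instance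
  have hS : LocallyOfFiniteType (pullback.snd (Spec.map φ) r) := by
    have : pullback.snd (Spec.map φ) r = mm ≫ pullback.snd f r := by simp [mm]
    rw [this]; infer_instance
  suffices key : ∀ (S : Type u) [CommRing S] (ψ : A →+* S),
      LocallyOfFiniteType (pullback.snd (Spec.map (CommRingCat.ofHom ψ)) r) → ψ.FiniteType from key _ φ.hom hS
  intro S _ ψ hS
  algebraize [ψ]
  refine RingHom.finiteType_algebraMap.2 (Deform4.finiteType_of_tensor m ?_ ?_)
  · have h := IsArtinianRing.isNilpotent_jacobson_bot (R := A)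
    rwa [IsLocalRing.jacobson_eq_maximalIdeal _ bot_ne_top] at h
  have h : LocallyOfFiniteType
      (Spec.map (CommRingCat.ofHom (algebraMap (A ⧸ m) ((A ⧸ m) ⊗[A] S)))) := by
    rw [← pullbackSpecIso_inv_fst' A (A ⧸ m) S, ← pullbackSymmetry_hom_comp_snd]
    haveI : LocallyOfFiniteType (pullback.snd (Spec.map (CommRingCat.ofHom (algebraMap A S))) r) := hS
    infer_instance
  exact RingHom.finiteType_algebraMap.1 ((HasRingHomProperty.Spec_iff (P := @LocallyOfFiniteType)).1 h)

/-- A group over an Artinian local ring is locally of finite type if a nonempty open is. -/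
theorem lft_of_open_artinian (A : Type u) [CommRing A] [IsArtinianRing A] [IsLocalRing A]
    (G : Over (Spec (CommRingCat.of A))) [GrpObj G]
    (W : G.left.Opens) (hW : (W : Set G.left).Nonempty) [LocallyOfFiniteType (W.ι ≫ G.hom)] :
    LocallyOfFiniteType G.hom := by
  let i : Spec (CommRingCat.of (IsLocalRing.ResidueField A)) ⟶ Spec (CommRingCat.of A) :=
    Spec.map (CommRingCat.ofHom (IsLocalRing.residue A))
  haveI : Surjective i := ⟨fun y => ⟨IsLocalRing.closedPoint _, Subsingleton.elim (α := PrimeSpectrum A) _ _⟩⟩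
  let F := Over.pullback i
  letI : GrpObj (F.obj G) := Functor.grpObjObj
  let π : pullback G.hom i ⟶ G.left := pullback.fst G.hom i
  let W' : (F.obj G).left.Opens := π ⁻¹ᵁ W
  have hW' : (W' : Set (F.obj G).left).Nonempty := by
    obtain ⟨w, hw⟩ := hW
    obtain ⟨y, hy⟩ := π.surjective w
    exact ⟨y, show π y ∈ W by rw [hy]; exact hw⟩
  haveI : LocallyOfFiniteType (W'.ι ≫ (F.obj G).hom) :=
    MorphismProperty.of_isPullback
      ((isPullback_morphismRestrict π W).paste_vert (IsPullback.of_hasPullback G.hom i))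
      ‹LocallyOfFiniteType (W.ι ≫ G.hom)›
  haveI : LocallyOfFiniteType (pullback.snd G.hom i) := lft_of_open (F.obj G) W' hW'
  exact lft_of_closedFibre A G.hom

end Groth.Agent.LftDesc20
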