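import Mathlib.AlgebraicGeometry.Morphisms.FiniteType
import Mathlib.AlgebraicGeometry.Pullbacks
import Mathlib.AlgebraicGeometry.PullbackCarrier
import Mathlib.RingTheory.Spectrum.Prime.Chevalley
import Mathlib.RingTheory.Flat.Basic
import Mathlib.RingTheory.Localization.Away.Basic

/-!
# Finite type descends pointwise along field extensions
-/

universe u

open CategoryTheory Limits AlgebraicGeometry
open scoped TensorProduct

set_option linter.style.haveILetI false
set_option backward.isDefEq.respectTransparency false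

namespace Groth.Agent.LftDesc20

/-- If a basic open of `B ⊗ K` through a point over `p` is of finite type over `K`, then a basic open
of `B` through `p` is of finite type over `k`. -/
theorem exists_finiteType_away {k B K : Type u} [Field k] [CommRing B] [Algebra k B] [Field K] [Algebra k K]
    (f : B ⊗[k] K) (q : PrimeSpectrum (B ⊗[k] K)) (hf : f ∉ q.asIdeal)
    (hft : ((algebraMap (B ⊗[k] K) (Localization.Away f)).comp
      (Algebra.TensorProduct.includeRight : K →ₐ[k] B ⊗[k] K).toRingHom).FiniteType) :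
    ∃ g : B, algebraMap B (B ⊗[k] K) g ∉ q.asIdeal ∧ Algebra.FiniteType k (Localization.Away g) := by
  classical
  let L := Localization.Away f
  letI : Algebra K L := ((algebraMap (B ⊗[k] K) L).comp
    (Algebra.TensorProduct.includeRight : K →ₐ[k] B ⊗[k] K).toRingHom).toAlgebra
  obtain ⟨s, hs⟩ : (⊤ : Subalgebra K L).FG := by
    have h : Algebra.FiniteType K L := hft
    exact h.out
  choose num hnum using fun z : L => IsLocalization.Away.surj f z
  choose T hT using fun x : B ⊗[k] K => TensorProduct.exists_finset (R := k) x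
  let T' : Finset B := ((insert f (s.image fun z => hnum z |>.choose)).biUnion fun x => (T x).image Prod.fst)
  let B0 : Subalgebra k B := Algebra.adjoin k (T' : Set B)
  haveI : Algebra.FiniteType k B0 := B0.fg_iff_finiteType.mp ⟨T', rfl⟩
  let ι := Algebra.TensorProduct.map B0.val (AlgHom.id k K)
  have hlift : ∀ x ∈ insert f (s.image fun z => hnum z |>.choose), ∃ x₀, ι x₀ = x := by
    intro x hx
    change x ∈ ι.range
    rw [hT x]
    refine Subalgebra.sum_mem _ fun i hi => ?_
    exact ⟨(⟨i.1, Algebra.subset_adjoin (Finset.mem_biUnion.2 ⟨x, hx, Finset.mem_image_of_mem _ hi⟩)⟩ : B0) ⊗ₜ i.2, rfl⟩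
  obtain ⟨f₀, hf₀⟩ := hlift f (Finset.mem_insert_self _ _)
  let Φ : B0 ⊗[k] K →+* L := (algebraMap (B ⊗[k] K) L).comp ι.toRingHom
  have hΦf : Φ f₀ = algebraMap (B ⊗[k] K) L f := congrArg (algebraMap (B ⊗[k] K) L) hf₀
  have hgen : ∀ z : L, ∃ (a : B0 ⊗[k] K) (n : ℕ), z * Φ f₀ ^ n = Φ a := by
    intro z
    have hz : z ∈ Algebra.adjoin K (s : Set L) := by rw [hs]; trivial
    induction hz using Algebra.adjoin_induction with
    | mem z hz =>
      obtain ⟨a, ha⟩ := hlift _ (Finset.mem_insert_of_mem (Finset.mem_image_of_mem _ hz))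
      refine ⟨a, num z, ?_⟩
      rw [hΦf, show Φ a = algebraMap (B ⊗[k] K) L ((hnum z).choose) from congrArg (algebraMap (B ⊗[k] K) L) ha]
      exact (hnum z).choose_spec
    | algebraMap c =>
      refine ⟨1 ⊗ₜ c, 0, ?_⟩
      rw [pow_zero, mul_one]
      show algebraMap (B ⊗[k] K) L ((1 : B) ⊗ₜ c) = algebraMap (B ⊗[k] K) L (ι ((1 : B0) ⊗ₜ c))
      simp [ι]
    | add x y _ _ hx hy =>
      obtain ⟨a, n, hn⟩ := hx
      obtain ⟨b, m, hm⟩ := hy
      refine ⟨a * f₀ ^ m + b * f₀ ^ n, n + m, ?_⟩
      rw [map_add, map_mul, map_mul, map_pow, map_pow, ← hn, ← hm]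
      ring
    | mul x y _ _ hx hy =>
      obtain ⟨a, n, hn⟩ := hx
      obtain ⟨b, m, hm⟩ := hy
      refine ⟨a * b, n + m, ?_⟩
      rw [map_mul, ← hn, ← hm]
      ring
  -- the open of `Spec B0`
  let q₀ : PrimeSpectrum (B0 ⊗[k] K) := PrimeSpectrum.comap ι.toRingHom q
  have hq₀ : f₀ ∉ q₀.asIdeal := by
    show ι f₀ ∉ q.asIdeal
    rwa [hf₀]
  obtain ⟨_, ⟨g, rfl⟩, hgq, hgU⟩ := PrimeSpectrum.isTopologicalBasis_basic_opens.exists_subset_of_mem_open
    (show PrimeSpectrum.comap (algebraMap B0 (B0 ⊗[k] K)) q₀ ∈ _ from Set.mem_image_of_mem _ hq₀)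
    (PrimeSpectrum.isOpenMap_comap_algebraMap_tensorProduct_of_field (K := k) (A := B0) (B := K) _
      (PrimeSpectrum.basicOpen f₀).isOpen)
  refine ⟨(g : B), ?_, ?_⟩
  · have h : algebraMap B0 (B0 ⊗[k] K) g ∉ q₀.asIdeal := hgq
    intro hg
    exact h (by show ι (algebraMap B0 (B0 ⊗[k] K) g) ∈ q.asIdeal; simpa [ι, Algebra.TensorProduct.algebraMap_apply] using hg)
  -- every element of `B` is in `B0` after multiplying by a power of `g`
  have hkey : ∀ b : B, ∃ N : ℕ, (g : B) ^ N * b ∈ B0 := by
    intro b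
    let I : Ideal B0 :=
      { carrier := {c | (c : B) * b ∈ B0}
        add_mem' := fun {c d} hc hd => by
          simp only [Set.mem_setOf_eq, Subalgebra.coe_add, add_mul] at hc hd ⊢
          exact B0.add_mem hc hd
        zero_mem' := by simp [B0.zero_mem]
        smul_mem' := fun c {d} hd => by
          simp only [Set.mem_setOf_eq, smul_eq_mul, Subalgebra.coe_mul, mul_assoc] at hd ⊢
          exact B0.mul_mem c.2 hd }
    obtain ⟨a, n, hn⟩ := hgen (algebraMap (B ⊗[k] K) L (b ⊗ₜ 1))
    rw [hΦf, ← map_pow, ← map_mul] at hn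
    obtain ⟨N, hN⟩ := IsLocalization.Away.exists_of_eq f (show algebraMap (B ⊗[k] K) L _ = algebraMap _ L (ι a) from hn)
    let h := f₀ ^ (N + n)
    have hh : ι h * (b ⊗ₜ 1) = ι (f₀ ^ N * a) := by
      rw [map_mul, map_pow, map_pow, hf₀, ← hN, pow_add]; ring
    let W : Submodule k B := Subalgebra.toSubmodule B0
    let φ : B0 →ₗ[k] B ⧸ W := W.mkQ ∘ₗ LinearMap.mulRight k b ∘ₗ B0.val.toLinearMap
    have h1 : ∀ y : B0 ⊗[k] K, φ.rTensor K y = W.mkQ.rTensor K (ι y * (b ⊗ₜ 1)) := by
      intro y
      induction y using TensorProduct.induction_on with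
      | zero => simp
      | tmul c t => simp [φ, ι]
      | add y z hy hz => simp [map_add, add_mul, hy, hz]
    have h2 : ∀ y : B0 ⊗[k] K, W.mkQ.rTensor K (ι y) = 0 := by
      intro y
      induction y using TensorProduct.induction_on with
      | zero => simp
      | tmul c t =>
        simp only [ι, Algebra.TensorProduct.map_tmul, LinearMap.rTensor_tmul]
        rw [show W.mkQ (B0.val c) = 0 from (Submodule.Quotient.mk_eq_zero W).2 c.2, TensorProduct.zero_tmul]
      | add y z hy hz => simp [map_add, hy, hz]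
    have hex : Function.Exact (LinearMap.ker φ).subtype φ := LinearMap.exact_subtype_ker_map φ
    obtain ⟨z, hz⟩ := (Module.Flat.rTensor_exact K hex h).1 (by rw [h1, hh, h2])
    have hI : h ∈ I.map (algebraMap B0 (B0 ⊗[k] K)) := by
      rw [← hz]
      clear hz
      induction z using TensorProduct.induction_on with
      | zero => simp
      | tmul c t =>
        have hc : (c : B0) ∈ I := by
          have := c.2
          rw [LinearMap.mem_ker] at this
          exact (Submodule.Quotient.mk_eq_zero W).1 this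
        rw [LinearMap.rTensor_tmul, Submodule.coe_subtype,
          show (c : B0) ⊗ₜ[k] t = algebraMap B0 (B0 ⊗[k] K) c * (1 ⊗ₜ t) by
            simp [Algebra.TensorProduct.algebraMap_apply]]
        exact Ideal.mul_mem_right _ _ (Ideal.mem_map_of_mem _ hc)
      | add y z hy hz => rw [map_add]; exact add_mem hy hz
    have hrad : g ∈ I.radical := by
      rw [Ideal.radical_eq_sInf, Ideal.mem_sInf]
      rintro P ⟨hIP, hP⟩
      by_contra hgP
      obtain ⟨Q, hQ, hQP⟩ := hgU (show (⟨P, hP⟩ : PrimeSpectrum B0) ∈ PrimeSpectrum.basicOpen g from hgP)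
      have : h ∈ Q.asIdeal := by
        refine (Ideal.map_le_iff_le_comap.2 ?_) hI
        intro c hc
        exact (PrimeSpectrum.ext_iff.1 hQP).ge (hIP hc)
      exact hQ (Q.2.mem_of_pow_mem _ this)
    obtain ⟨M, hM⟩ := hrad
    exact ⟨M, by simpa using (show ((g ^ M : B0) : B) * b ∈ B0 from hM)⟩
  let Lg := Localization.Away (g : B)
  let inv : Lg := IsLocalization.Away.invSelf (g : B)
  refine ⟨⟨insert inv (T'.image (algebraMap B Lg)), eq_top_iff.2 fun z _ => ?_⟩⟩
  obtain ⟨n, b, hb⟩ := IsLocalization.Away.surj (g : B) z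
  obtain ⟨N, hN⟩ := hkey b
  have hmem : ∀ c ∈ B0, algebraMap B Lg c ∈
      Algebra.adjoin k ((insert inv (T'.image (algebraMap B Lg)) : Finset Lg) : Set Lg) := by
    intro c hc
    have : IsScalarTower.toAlgHom k B Lg c ∈ B0.map (IsScalarTower.toAlgHom k B Lg) := ⟨c, hc, rfl⟩
    rw [AlgHom.map_adjoin] at this
    refine Algebra.adjoin_mono ?_ this
    simp
  have hz : z = algebraMap B Lg ((g : B) ^ N * b) * inv ^ (N + n) := by
    have h1 : algebraMap B Lg (g : B) * inv = 1 := IsLocalization.Away.mul_invSelf (g : B)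
    calc z = z * (algebraMap B Lg (g : B) * inv) ^ (N + n) := by rw [h1, one_pow, mul_one]
      _ = _ := by rw [map_mul, map_pow, ← hb]; ring
  rw [hz]
  exact Subalgebra.mul_mem _ (hmem _ hN)
    (Subalgebra.pow_mem _ (Algebra.subset_adjoin (Finset.mem_coe.2 (Finset.mem_insert_self _ _))) _)

/-- A point of a scheme over a field has a neighbourhood locally of finite type as soon as a point
over it in a field extension has one. -/
theorem exists_lft_nhd {k K : Type u} [Field k] [Field K] [Algebra k K] {X : Scheme.{u}}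
    (h : X ⟶ Spec (CommRingCat.of k))
    (v : ↥(pullback h (Spec.map (CommRingCat.ofHom (algebraMap k K)))))
    (hv : ∃ V : (pullback h (Spec.map (CommRingCat.ofHom (algebraMap k K)))).Opens,
      v ∈ V ∧ LocallyOfFiniteType (V.ι ≫ pullback.snd h (Spec.map (CommRingCat.ofHom (algebraMap k K))))) :
    ∃ O : X.Opens, pullback.fst h (Spec.map (CommRingCat.ofHom (algebraMap k K))) v ∈ O ∧
      LocallyOfFiniteType (O.ι ≫ h) := by
  obtain ⟨V, hvV, hV⟩ := hv
  let φ := Spec.map (CommRingCat.ofHom (algebraMap k K))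
  let π := pullback.fst h φ
  obtain ⟨O, hO, hxO, -⟩ := exists_isAffineOpen_mem_and_subset (X := X) (x := π v) (U := ⊤) trivial
  let α : k →+* Γ(X, O) := (Spec.preimage (hO.fromSpec ≫ h)).hom
  algebraize [α]
  let B := Γ(X, O)
  have hα : Spec.map (CommRingCat.ofHom (algebraMap k B)) = hO.fromSpec ≫ h := Spec.map_preimage _
  let a := Spec.map (CommRingCat.ofHom (algebraMap k B))
  let m : pullback a φ ⟶ pullback h φ :=
    pullback.map a φ h φ hO.fromSpec (𝟙 _) (𝟙 _) (by rw [Category.comp_id]; exact hα) (by simp)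
  haveI : IsOpenImmersion m := by
    dsimp [m]; infer_instance
  let e : pullback a φ ≅ Spec (CommRingCat.of (B ⊗[k] K)) := pullbackSpecIso k B K
  let j : Spec (CommRingCat.of (B ⊗[k] K)) ⟶ pullback h φ := e.inv ≫ m
  have hjsnd : j ≫ pullback.snd h φ =
      Spec.map (CommRingCat.ofHom (Algebra.TensorProduct.includeRight : K →ₐ[k] B ⊗[k] K).toRingHom) := by
    simp [j, m, e]
    exact pullbackSpecIso_inv_snd k B K
  have hjfst : j ≫ π = Spec.map (CommRingCat.ofHom (algebraMap B (B ⊗[k] K))) ≫ hO.fromSpec := by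
    simp [j, m, e, π]
    exact pullbackSpecIso_inv_fst'_assoc k B K hO.fromSpec
  obtain ⟨w, hw⟩ : v ∈ Set.range j := by
    have hm : v ∈ Set.range m := by
      simp only [m]
      rw [Scheme.Pullback.range_map]
      exact ⟨by rw [Set.mem_preimage]; exact hO.range_fromSpec.ge hxO, by simp⟩
    obtain ⟨w', hw'⟩ := hm
    exact ⟨e.hom w', by simp [j, ← Scheme.Hom.comp_apply]; exact hw'⟩
  obtain ⟨_, ⟨f, rfl⟩, hwf, hfV⟩ := PrimeSpectrum.isTopologicalBasis_basic_opens.exists_subset_of_mem_open
    (show w ∈ j ⁻¹' (V : Set ↥(pullback h φ)) by show j w ∈ V; rw [hw]; exact hvV)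
    (V.isOpen.preimage j.continuous)
  let L := Localization.Away f
  let l := Spec.map (CommRingCat.ofHom (algebraMap (B ⊗[k] K) L))
  have hlV : Set.range (l ≫ j) ⊆ Set.range V.ι := by
    rintro _ ⟨y, rfl⟩
    rw [Scheme.Opens.range_ι]
    exact hfV ((PrimeSpectrum.localization_away_comap_range L f).subset ⟨y, rfl⟩)
  haveI : IsOpenImmersion l := IsOpenImmersion.of_isLocalization f
  haveI : IsOpenImmersion (IsOpenImmersion.lift V.ι (l ≫ j) hlV) := by
    haveI : IsOpenImmersion (IsOpenImmersion.lift V.ι (l ≫ j) hlV ≫ V.ι) := by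
      rw [IsOpenImmersion.lift_fac]; infer_instance
    exact IsOpenImmersion.of_comp _ V.ι
  have hft : ((algebraMap (B ⊗[k] K) L).comp
      (Algebra.TensorProduct.includeRight : K →ₐ[k] B ⊗[k] K).toRingHom).FiniteType := by
    have hl : LocallyOfFiniteType (IsOpenImmersion.lift V.ι (l ≫ j) hlV ≫ V.ι ≫ pullback.snd h φ) := by
      haveI := hV; infer_instance
    rw [IsOpenImmersion.lift_fac_assoc, Category.assoc, hjsnd, ← Spec.map_comp] at hl
    exact (HasRingHomProperty.Spec_iff (P := @LocallyOfFiniteType)).1 hl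
  obtain ⟨g, hgq, hgft⟩ := exists_finiteType_away f w hwf hft
  let e' : Spec (CommRingCat.of (Localization.Away g)) ⟶ X :=
    Spec.map (CommRingCat.ofHom (algebraMap B (Localization.Away g))) ≫ hO.fromSpec
  haveI : IsOpenImmersion (Spec.map (CommRingCat.ofHom (algebraMap B (Localization.Away g)))) :=
    IsOpenImmersion.of_isLocalization g
  refine ⟨e'.opensRange, ?_, ?_⟩
  · obtain ⟨y, hy⟩ : PrimeSpectrum.comap (algebraMap B (B ⊗[k] K)) w ∈
        Set.range (PrimeSpectrum.comap (algebraMap B (Localization.Away g))) := by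
      rw [PrimeSpectrum.localization_away_comap_range (Localization.Away g) g]
      exact hgq
    refine ⟨y, ?_⟩
    show e' y = π v
    rw [← hw, ← Scheme.Hom.comp_apply, hjfst, Scheme.Hom.comp_apply, Scheme.Hom.comp_apply]
    exact congrArg hO.fromSpec hy
  · have h1 : e'.opensRange.ι ≫ h = e'.isoOpensRange.inv ≫ e' ≫ h := by
      rw [← Scheme.Hom.isoOpensRange_inv_comp_assoc e']
    rw [h1]
    haveI : LocallyOfFiniteType (e' ≫ h) := by
      rw [Category.assoc, ← hα, ← Spec.map_comp, HasRingHomProperty.Spec_iff (P := @LocallyOfFiniteType)]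
      refine RingHom.finiteType_algebraMap.2 hgft |> fun t => ?_
      rw [IsScalarTower.algebraMap_eq k B (Localization.Away g)] at t
      exact t
    infer_instance

end Groth.Agent.LftDesc20
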