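import Groth.Agent.Lib.LftDesc20.Group
import Groth.Agent.Lib.GrpFin20.Basic
import Mathlib.AlgebraicGeometry.Morphisms.Immersion
import Mathlib.AlgebraicGeometry.Morphisms.ClosedImmersion

/-!
# Immersions over an Artinian local ring are detected on the closed fibre
-/

universe u

open CategoryTheory Limits AlgebraicGeometry IsLocalRing
open scoped TensorProduct

set_option linter.style.haveILetI false
set_option backward.isDefEq.respectTransparency false

namespace Groth.Agent.LftDesc20

/-- Surjectivity on stalks may be checked modulo a nilpotent ideal. -/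
theorem surjectiveOnStalks_of_nilpotent {R S : Type u} [CommRing R] [CommRing S] (ψ : R →+* S) (J : Ideal R)
    (hJ : IsNilpotent J) (h : ((Ideal.Quotient.mk (J.map ψ)).comp ψ).SurjectiveOnStalks) :
    ψ.SurjectiveOnStalks := by
  intro q hq
  obtain ⟨m, hm⟩ := hJ
  let p := q.comap ψ
  let L := Localization.AtPrime q
  let φ : Localization.AtPrime p →+* L := Localization.localRingHom p q ψ rfl
  let ψL : R →+* L := (algebraMap S L).comp ψ
  have hφ : ∀ r, φ (algebraMap R _ r) = ψL r := fun r => Localization.localRingHom_to_map p q ψ rfl r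
  let K : Ideal L := J.map ψL
  have hKS : (J.map ψ).map (algebraMap S L) = K := Ideal.map_map ψ (algebraMap S L)
  have hq' : J.map ψ ≤ q := fun x hx => hq.mem_of_pow_mem m (by
    have h1 : x ^ m ∈ J.map ψ ^ m := Ideal.pow_mem_pow hx m
    rw [← Ideal.map_pow, hm, Ideal.zero_eq_bot, Ideal.map_bot, Ideal.mem_bot] at h1
    rw [h1]; exact q.zero_mem)
  have hKmax : K ≤ maximalIdeal L := by
    rw [← hKS, ← Localization.AtPrime.map_eq_maximalIdeal]
    exact Ideal.map_mono hq'
  let q' : Ideal (S ⧸ J.map ψ) := q.map (Ideal.Quotient.mk _)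
  haveI : q'.IsPrime := Ideal.map_isPrime_of_surjective Ideal.Quotient.mk_surjective (by rw [Ideal.mk_ker]; exact hq')
  have hqq : ∀ c : S, Ideal.Quotient.mk (J.map ψ) c ∈ q' ↔ c ∈ q := fun c => by
    refine ⟨fun hc => ?_, Ideal.mem_map_of_mem _⟩
    obtain ⟨d, hd, hdc⟩ := (Ideal.mem_map_iff_of_surjective _ Ideal.Quotient.mk_surjective).1 hc
    have := hq' ((Ideal.Quotient.mk_eq_mk_iff_sub_mem _ _).1 hdc)
    simpa using sub_mem hd this
  have base : ∀ s : S, ∃ a, algebraMap S L s - φ a ∈ K := by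
    intro s
    obtain ⟨x, r, c, hc, hr, e⟩ := (RingHom.surjective_localRingHom_iff q').1 (h q' inferInstance)
      (Ideal.Quotient.mk _ s)
    obtain ⟨c, rfl⟩ := Ideal.Quotient.mk_surjective c
    rw [RingHom.comp_apply] at hr
    simp only [RingHom.comp_apply, ← map_mul] at e
    have he := Ideal.mem_map_of_mem (algebraMap S L) ((Ideal.Quotient.mk_eq_mk_iff_sub_mem _ _).1 e)
    rw [hKS] at he
    have hc' : IsUnit (algebraMap S L c) := IsLocalization.map_units L (⟨c, fun hh => hc ((hqq c).2 hh)⟩ : q.primeCompl)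
    have hrp : r ∈ p.primeCompl := fun hh => hr ((hqq _).2 hh)
    refine ⟨IsLocalization.mk' (Localization.AtPrime p) x (⟨r, hrp⟩ : p.primeCompl), ?_⟩
    have hr' : IsUnit (algebraMap S L (ψ r)) :=
      IsLocalization.map_units L (⟨ψ r, fun hh => hr ((hqq _).2 hh)⟩ : q.primeCompl)
    have h2 : algebraMap S L (ψ r) * φ (IsLocalization.mk' (Localization.AtPrime p) x (⟨r, hrp⟩ : p.primeCompl)) =
        algebraMap S L (ψ x) := by
      rw [← show φ (algebraMap R _ r) = algebraMap S L (ψ r) from hφ r, ← map_mul]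
      exact (congrArg φ (IsLocalization.mk'_spec' (Localization.AtPrime p) x (⟨r, hrp⟩ : p.primeCompl))).trans (hφ x)
    rw [← Ideal.unit_mul_mem_iff_mem _ (hc'.mul hr')]
    have h3 : algebraMap S L c * algebraMap S L (ψ r) *
        (algebraMap S L s - φ (IsLocalization.mk' (Localization.AtPrime p) x (⟨r, hrp⟩ : p.primeCompl))) =
        algebraMap S L (c * ψ r * s - c * ψ x) := by
      rw [mul_sub, mul_assoc (algebraMap S L c) _ (φ _), h2, map_sub, map_mul, map_mul, map_mul]
    rw [h3]
    exact he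
  have one : ∀ z : L, ∃ a, z - φ a ∈ K := by
    intro z
    obtain ⟨s, t, rfl⟩ := IsLocalization.exists_mk'_eq q.primeCompl z
    obtain ⟨a, ha⟩ := base s
    obtain ⟨b, hb⟩ := base t
    have htu : IsUnit (algebraMap S L (t : S)) := IsLocalization.map_units L t
    have hb' : IsUnit (φ b) := by
      by_contra hn
      refine (mem_maximalIdeal _).1 ?_ htu
      simpa using add_mem (hKmax hb) ((mem_maximalIdeal (φ b)).2 hn)
    haveI : IsLocalHom φ := Localization.isLocalHom_localRingHom p q ψ rfl
    have hbu : IsUnit b := IsLocalHom.map_nonunit (f := φ) b hb'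
    refine ⟨a * hbu.unit⁻¹.val, ?_⟩
    rw [← Ideal.unit_mul_mem_iff_mem _ htu, mul_sub, IsLocalization.mk'_spec']
    have h1 : φ b * φ hbu.unit⁻¹.val = 1 := by rw [← map_mul]; simp
    have h2 : algebraMap S L s - algebraMap S L (t : S) * φ (a * hbu.unit⁻¹.val) =
        (algebraMap S L s - φ a) - (algebraMap S L (t : S) - φ b) * (φ a * φ hbu.unit⁻¹.val) := by
      rw [map_mul]
      linear_combination (-φ a) * h1
    rw [h2]
    exact sub_mem ha (K.mul_mem_right _ hb)
  have all : ∀ (n : ℕ) (z : L), ∃ a, z - φ a ∈ K ^ n := by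
    intro n
    induction n with
    | zero => exact fun z => ⟨0, by simp⟩
    | succ n ih =>
      intro z
      obtain ⟨a, ha⟩ := ih z
      have key : ∀ t ∈ Ideal.map ψL (J ^ n), ∃ b, t - φ b ∈ K ^ (n + 1) := by
        intro t ht
        induction ht using Submodule.span_induction with
        | mem t ht =>
          obtain ⟨j, hj, rfl⟩ := ht
          exact ⟨algebraMap R _ j, by simp [hφ]⟩
        | zero => exact ⟨0, by simp⟩
        | add x y _ _ hx hy =>
          obtain ⟨b, hb⟩ := hx
          obtain ⟨b', hb'⟩ := hy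
          exact ⟨b + b', by rw [map_add, add_sub_add_comm]; exact add_mem hb hb'⟩
        | smul s x hxm hx =>
          obtain ⟨b, hb⟩ := hx
          obtain ⟨c, hc⟩ := one s
          refine ⟨c * b, ?_⟩
          rw [map_mul, smul_eq_mul, show s * x - φ c * φ b = φ c * (x - φ b) + (s - φ c) * x by ring]
          refine add_mem (Ideal.mul_mem_left _ _ hb) ?_
          rw [pow_succ']
          exact Ideal.mul_mem_mul hc ((Ideal.map_pow ψL J n).le hxm)
      obtain ⟨b, hb⟩ := key _ ((Ideal.map_pow ψL J n).ge ha)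
      exact ⟨a + b, by rwa [map_add, sub_add_eq_sub_sub]⟩
  intro z
  obtain ⟨a, ha⟩ := all m z
  refine ⟨a, ?_⟩
  rw [← Ideal.map_pow, hm, Ideal.zero_eq_bot, Ideal.map_bot, Ideal.mem_bot, sub_eq_zero] at ha
  exact ha.symm

/-- Surjectivity on stalks is detected on the closed fibre. -/
theorem surjectiveOnStalks_of_closedFibre (A : Type u) [CommRing A] [IsArtinianRing A] [IsLocalRing A]
    {X Y : Over (Spec (CommRingCat.of A))} (u : X ⟶ Y)
    [SurjectiveOnStalks ((Over.pullback (Spec.map (CommRingCat.ofHom (algebraMap A (A ⧸ maximalIdeal A))))).map u).left] :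
    SurjectiveOnStalks u.left := by
  let m := maximalIdeal A
  let i := Spec.map (CommRingCat.ofHom (algebraMap A (A ⧸ m)))
  let uk := ((Over.pullback i).map u).left
  rw [HasRingHomProperty.iff_appLE (P := @SurjectiveOnStalks)]
  rintro ⟨U, hU'⟩ ⟨V, hV'⟩ e
  have hU : IsAffineOpen U := hU'
  have hV : IsAffineOpen V := hV'
  let R := Γ(Y.left, U)
  let S := Γ(X.left, V)
  let ψ := u.left.appLE U V e
  let α : A →+* R := (Spec.preimage (hU.fromSpec ≫ Y.hom)).hom
  have hα : Spec.map (CommRingCat.ofHom α) = hU.fromSpec ≫ Y.hom := Spec.map_preimage _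
  have hψ : Spec.map ψ ≫ hU.fromSpec = hV.fromSpec ≫ u.left := IsAffineOpen.SpecMap_appLE_fromSpec u.left hU hV e
  have hβ : Spec.map (CommRingCat.ofHom (ψ.hom.comp α)) = hV.fromSpec ≫ X.hom := by
    rw [CommRingCat.ofHom_comp, Spec.map_comp, hα, CommRingCat.ofHom_hom, ← Category.assoc, hψ, Category.assoc, Over.w]
  algebraize [α, ψ.hom, ψ.hom.comp α]
  let P := (A ⧸ m) ⊗[A] R
  let Q := (A ⧸ m) ⊗[A] S
  let ψ₀ : P →ₐ[A] Q := Algebra.TensorProduct.map (AlgHom.id A (A ⧸ m)) (IsScalarTower.toAlgHom A R S)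
  -- charts of the closed fibres
  let jR : Spec (CommRingCat.of P) ⟶ pullback Y.hom i :=
    (pullbackSpecIso A (A ⧸ m) R).inv ≫ (pullbackSymmetry _ _).hom ≫
      pullback.map _ _ Y.hom i hU.fromSpec (𝟙 _) (𝟙 _) (by rw [Category.comp_id]; exact hα) (by simp [i])
  let jS : Spec (CommRingCat.of Q) ⟶ pullback X.hom i :=
    (pullbackSpecIso A (A ⧸ m) S).inv ≫ (pullbackSymmetry _ _).hom ≫
      pullback.map _ _ X.hom i hV.fromSpec (𝟙 _) (𝟙 _) (by rw [Category.comp_id]; exact hβ) (by simp [i])
  haveI : IsOpenImmersion jR := by dsimp [jR]; infer_instance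
  haveI : IsOpenImmersion jS := by dsimp [jS]; infer_instance
  have hcomm : Spec.map (CommRingCat.ofHom ψ₀.toRingHom) ≫ jR = jS ≫ uk := by
    have sq := GrpFin20.isPullback_map i u
    apply pullback.hom_ext
    · rw [Category.assoc jS, Category.assoc, show uk ≫ pullback.fst Y.hom i = pullback.fst X.hom i ≫ u.left from sq.w.symm]
      simp only [jR, jS, pullback.map, Category.assoc, pullback.lift_fst, pullback.lift_fst_assoc,
        pullbackSymmetry_hom_comp_fst_assoc, pullbackSpecIso_inv_snd_assoc, ← hψ]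
      simp only [← Spec.map_comp_assoc]
      congr 2
    · rw [Category.assoc jS, Category.assoc,
        show uk ≫ pullback.snd Y.hom i = pullback.snd X.hom i from Over.w ((Over.pullback i).map u)]
      simp only [jR, jS, pullback.map, Category.assoc, pullback.lift_snd,
        pullbackSymmetry_hom_comp_snd, pullbackSpecIso_inv_fst', Category.comp_id]
      simp only [← Spec.map_comp]
      congr 2
      ext a
      exact ((Algebra.TensorProduct.map (AlgHom.id (A ⧸ m) (A ⧸ m)) (IsScalarTower.toAlgHom A R S)).commutes _)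
  haveI : SurjectiveOnStalks uk :=
    ‹SurjectiveOnStalks ((Over.pullback (Spec.map (CommRingCat.ofHom (algebraMap A (A ⧸ maximalIdeal A))))).map u).left›
  have h0 : ψ₀.toRingHom.SurjectiveOnStalks := by
    have h1 : SurjectiveOnStalks (Spec.map (CommRingCat.ofHom ψ₀.toRingHom) ≫ jR) := by rw [hcomm]; infer_instance
    have h2 := SurjectiveOnStalks.of_comp (Spec.map (CommRingCat.ofHom ψ₀.toRingHom)) jR
    exact (HasRingHomProperty.Spec_iff (P := @SurjectiveOnStalks)).1 h2
  have hsurj : ∀ (T : Type u) [CommRing T] [Algebra A T],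
      Function.Surjective (Algebra.TensorProduct.includeRight : T →ₐ[A] (A ⧸ m) ⊗[A] T) := fun T _ _ =>
    TensorProduct.mk_surjective A T (A ⧸ m) Ideal.Quotient.mk_surjective
  let J : Ideal R := m.map (algebraMap A R)
  have hJnil : IsNilpotent J := by
    obtain ⟨n, hn⟩ := IsArtinianRing.isNilpotent_jacobson_bot (R := A)
    rw [IsLocalRing.jacobson_eq_maximalIdeal _ bot_ne_top] at hn
    exact ⟨n, by rw [← Ideal.map_pow, hn, Ideal.zero_eq_bot, Ideal.map_bot]; rfl⟩
  refine surjectiveOnStalks_of_nilpotent ψ.hom J hJnil ?_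
  have h3 : ((Algebra.TensorProduct.includeRight : S →ₐ[A] Q).toRingHom.comp ψ.hom).SurjectiveOnStalks := by
    have : (Algebra.TensorProduct.includeRight : S →ₐ[A] Q).toRingHom.comp ψ.hom =
        ψ₀.toRingHom.comp (Algebra.TensorProduct.includeRight : R →ₐ[A] P).toRingHom := by
      ext a; simp [ψ₀]; rfl
    rw [this]
    exact h0.comp (RingHom.surjectiveOnStalks_of_surjective (hsurj R))
  have hker : RingHom.ker (Algebra.TensorProduct.includeRight : S →ₐ[A] Q).toRingHom = J.map ψ.hom := by
    rw [Ideal.map_map]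
    exact Deform4.ker_includeRight m
  let eq₁ := (Ideal.quotEquivOfEq hker.symm).trans (RingHom.quotientKerEquivOfSurjective
    (f := (Algebra.TensorProduct.includeRight : S →ₐ[A] Q).toRingHom) (hsurj S))
  have h4 : (Ideal.Quotient.mk (J.map ψ.hom)).comp ψ.hom =
      eq₁.symm.toRingHom.comp ((Algebra.TensorProduct.includeRight : S →ₐ[A] Q).toRingHom.comp ψ.hom) := by
    refine RingHom.ext fun a => eq₁.injective ?_
    simp only [RingHom.comp_apply, RingEquiv.toRingHom_eq_coe, RingEquiv.coe_toRingHom, RingEquiv.apply_symm_apply]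
    rfl
  rw [h4]
  exact (RingEquiv.surjectiveOnStalks eq₁.symm).comp h3

end Groth.Agent.LftDesc20
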